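import Groth.Agent.Fibres16.ProperFlat.Limit
import Groth.Agent.FibCodepth.FibFlat

/-!
# Flatness descends along proper morphisms with injective pullback of germs
-/

set_option autoImplicit false
set_option linter.style.haveILetI false

universe u

open CategoryTheory CategoryTheory.Limits AlgebraicGeometry TopologicalSpace Opposite IsLocalRing
open Groth.Agent

noncomputable section

namespace Groth.Agent.Fibres16.ProperFlat

theorem pullGerm_rfl {Y Y' : Scheme.{u}} (g : Y' ⟶ Y) (y' : Y') :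
    pullGerm g (rfl : g y' = g y') = (g.stalkMap y').hom := by
  rw [pullGerm, TopCat.Presheaf.stalkSpecializes_refl, Category.id_comp]

theorem pullGerm_injective_of_isIso {Y Y' : Scheme.{u}} (g : Y' ⟶ Y) {y : Y} {y' : Y'} (h : g y' = y)
    [IsIso (g.stalkMap y')] : Function.Injective (pullGerm g h) := by
  subst h
  rw [pullGerm_rfl]
  exact (ConcreteCategory.bijective_of_isIso (g.stalkMap y')).1

theorem pullGerm_surjective {Y Y' : Scheme.{u}} (g : Y' ⟶ Y) [IsPreimmersion g] {y : Y} {y' : Y'} (h : g y' = y) :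
    Function.Surjective (pullGerm g h) := by
  subst h
  rw [pullGerm_rfl]
  exact g.stalkMap_surjective y'

/-- Only zero germs die on the fibre. -/
def GermInj {Y Y' : Scheme.{u}} (g : Y' ⟶ Y) (y : Y) : Prop :=
  ∀ a : Y.presheaf.stalk y, (∀ (y' : Y') (h : g y' = y), pullGerm g h a = 0) → a = 0

theorem GermInj.baseChange {Y Y' Y₁ Y₁' : Scheme.{u}} {g : Y' ⟶ Y} {y : Y} (H : GermInj g y) {c : Y₁ ⟶ Y}
    {p : Y₁' ⟶ Y'} {g₁ : Y₁' ⟶ Y₁} (sq : p ≫ g = g₁ ≫ c) {y₁ : Y₁} (hy : c y₁ = y)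
    (hc : Function.Surjective (pullGerm c hy))
    (hp : ∀ y' : Y', g y' = y → ∃ z, g₁ z = y₁ ∧ p z = y' ∧ IsIso (p.stalkMap z)) : GermInj g₁ y₁ := by
  intro a ha
  obtain ⟨a₀, rfl⟩ := hc a
  rw [H a₀ fun y' hy' => ?_, map_zero]
  obtain ⟨z, hz₁, hz₂, hiso⟩ := hp y' hy'
  have e₁ : (g₁ ≫ c) z = y := by rw [Scheme.Hom.comp_apply, hz₁, hy]
  have e₂ : (p ≫ g) z = y := by rw [Scheme.Hom.comp_apply, hz₂, hy']
  have h := ha z hz₁
  rw [← pullGerm_comp c g₁ hy hz₁ e₁, pullGerm_congr sq.symm e₁ e₂, pullGerm_comp g p hy' hz₂ e₂] at h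
  exact pullGerm_injective_of_isIso p hz₂ (h.trans (map_zero _).symm)

theorem germInj_of_sections {Y Y' : Scheme.{u}} (g : Y' ⟶ Y) [UniversallyClosed g] (y : Y)
    (hinj : ∀ (V : Y.Opens) (s : Γ(Y, V)), y ∈ V → g.app V s = 0 →
      ∃ W : Y.Opens, y ∈ W ∧ ∃ hWV : W ≤ V, Y.presheaf.map (homOfLE hWV).op s = 0) : GermInj g y := by
  intro a ha
  obtain ⟨V, hy, s, rfl⟩ := Y.presheaf.exists_germ_eq a
  have hloc : ∀ y', g y' = y → ∃ (O : Y'.Opens) (hO : O ≤ g ⁻¹ᵁ V), y' ∈ O ∧
      Y'.presheaf.map (homOfLE hO).op (g.app V s) = 0 := fun y' hy' => by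
    have h := ha y' hy'
    rw [pullGerm_germ g hy' hy (show g y' ∈ V by rw [hy']; exact hy)] at h
    obtain ⟨O, hyO, i₁, i₂, he⟩ := Y'.presheaf.germ_eq (U := g ⁻¹ᵁ V) (V := g ⁻¹ᵁ V) y' (show g y' ∈ V by rw [hy']; exact hy)
      (show g y' ∈ V by rw [hy']; exact hy) (g.app V s) 0 (h.trans (map_zero _).symm)
    exact ⟨O, i₁.le, hyO, he.trans (map_zero _)⟩
  choose O hO hyO hs using hloc
  let O' : Y'.Opens := ⨆ (y' : Y') (h : g y' = y), O y' h
  let C : Set Y := g '' ((O' : Set Y')ᶜ)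
  have hC : IsClosed C := g.isClosedMap _ O'.2.isClosed_compl
  let W : Y.Opens := V ⊓ ⟨Cᶜ, hC.isOpen_compl⟩
  have hyW : y ∈ W := ⟨hy, fun ⟨y', hy'O, hy'⟩ =>
    hy'O (Opens.mem_iSup.2 ⟨y', Opens.mem_iSup.2 ⟨hy', hyO y' hy'⟩⟩)⟩
  have h0 : g.app W (Y.presheaf.map (homOfLE (inf_le_left : W ≤ V)).op s) = 0 := by
    refine TopCat.Presheaf.section_ext Y'.sheaf _ _ 0 fun w hw => ?_
    have hwO : w ∈ O' := by
      by_contra hn
      exact hw.2 ⟨w, hn, rfl⟩
    obtain ⟨y', hw'⟩ := Opens.mem_iSup.1 hwO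
    obtain ⟨hy', hw''⟩ := Opens.mem_iSup.1 hw'
    show Y'.presheaf.germ (g ⁻¹ᵁ W) w hw _ = Y'.presheaf.germ (g ⁻¹ᵁ W) w hw 0
    rw [map_zero, ← pullGerm_germ g (rfl : g w = g w) hw hw, TopCat.Presheaf.germ_res_apply,
      pullGerm_germ g (rfl : g w = g w) hw.1 hw.1, ← Y'.presheaf.germ_res_apply (homOfLE (hO y' hy')) w hw'',
      hs y' hy', map_zero]
  obtain ⟨W₂, hyW₂, hW₂, hs₂⟩ := hinj W _ hyW h0
  rw [← Y.presheaf.germ_res_apply (homOfLE (inf_le_left : W ≤ V)) y hyW, ← Y.presheaf.germ_res_apply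
    (homOfLE hW₂) y hyW₂, hs₂, map_zero]

/-- Flatness descends along a proper morphism of finite presentation if only zero germs die on the fibre. -/
theorem isFlatOverAt_of_proper {X Y Y' : Scheme.{u}} (f : X ⟶ Y) [LocallyOfFinitePresentation f] (F : X.Modules)
    [Coh.IsQCoh F] (hF : CohB1.IsFP F) (x : X) (g : Y' ⟶ Y) [IsProper g] [LocallyOfFinitePresentation g]
    (hinj : GermInj g (f x))
    (hflat : ∀ x' : ↥(pullback f g), pullback.fst f g x' = x →
      FlatMod.IsFlatOverAt (pullback.snd f g) ((Scheme.Modules.pullback (pullback.fst f g)).obj F) x') :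
    FlatMod.IsFlatOverAt f F x := by
  obtain ⟨V, hV, hyV, -⟩ := exists_isAffineOpen_mem_and_subset (U := (⊤ : Y.Opens)) (x := f x) trivial
  obtain ⟨U, hU, hxU, eU⟩ := exists_isAffineOpen_mem_and_subset (U := f ⁻¹ᵁ V) (x := x) hyV
  haveI : IsAffine V.toScheme := hV
  haveI : IsAffine U.toScheme := hU
  let f₁ := f.resLE V U eU
  let g₁ := g ∣_ V
  haveI : IsProper g₁ := IsZariskiLocalAtTarget.restrict ‹_› V
  haveI : LocallyOfFinitePresentation g₁ := IsZariskiLocalAtTarget.restrict ‹_› V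
  let u : U.toScheme := ⟨x, hxU⟩
  obtain ⟨hF₁q, hF₁⟩ := ConsPairLib.isFP_pullback U.ι F hF
  haveI : Coh.IsQCoh ((Scheme.Modules.pullback U.ι).obj F) := hF₁q
  have hw : U.ι ≫ f = f₁ ≫ V.ι := (Scheme.Hom.resLE_comp_ι f eU).symm
  refine (FibCodepth.isFlatOverAt_openImmersion f f₁ U.ι V.ι hw F u).1 ?_
  have hyu : V.ι (f₁ u) = f x := by rw [← Scheme.Hom.comp_apply, ← hw]; rfl
  have hinj₁ : GermInj g₁ (f₁ u) := hinj.baseChange (c := V.ι) (p := (g ⁻¹ᵁ V).ι) (g₁ := g₁)
    (morphismRestrict_ι g V).symm hyu (pullGerm_surjective V.ι hyu) fun y' hy' => by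
      refine ⟨⟨y', show g y' ∈ V by rw [hy']; exact hyV⟩, ?_, rfl, inferInstance⟩
      refine V.ι.isOpenEmbedding.injective ?_
      rw [← Scheme.Hom.comp_apply, morphismRestrict_ι, hyu]
      exact hy' 
  let F₁ := (Scheme.Modules.pullback U.ι).obj F
  have hflat₁ : ∀ w : ↥(pullback f₁ g₁), pullback.fst f₁ g₁ w = u →
      FlatMod.IsFlatOverAt (pullback.snd f₁ g₁) ((Scheme.Modules.pullback (pullback.fst f₁ g₁)).obj F₁) w := by
    intro w hwu
    let a := pullback.map f₁ g₁ f g U.ι (g ⁻¹ᵁ V).ι V.ι hw.symm (morphismRestrict_ι g V)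
    haveI : IsOpenImmersion a := Scheme.pullback_map_isOpenImmersion _ _ _ _ _ _ _ _ _
    have ha₁ : a ≫ pullback.fst f g = pullback.fst f₁ g₁ ≫ U.ι := pullback.lift_fst _ _ _
    have ha₂ : a ≫ pullback.snd f g = pullback.snd f₁ g₁ ≫ (g ⁻¹ᵁ V).ι := pullback.lift_snd _ _ _
    have h := (FibCodepth.isFlatOverAt_openImmersion (pullback.snd f g) (pullback.snd f₁ g₁) a
      (g ⁻¹ᵁ V).ι ha₂ _ w).2 (hflat (a w) (by
        rw [← Scheme.Hom.comp_apply, ha₁, Scheme.Hom.comp_apply, hwu]; rfl))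
    exact Fibres16.LimCrit.isFlatOverAt_of_iso _ ((Scheme.Modules.pullbackComp a _).app F ≪≫
      (Scheme.Modules.pullbackCongr ha₁).app F ≪≫ ((Scheme.Modules.pullbackComp _ _).app F).symm) w h
  -- the local scheme
  let c := V.toScheme.fromSpecStalk (f₁ u)
  haveI : Flat c := FDesc.BaseChangeStalk.flat_fromSpecStalk _
  haveI : IsAffine (Spec (V.toScheme.presheaf.stalk (f₁ u))) := inferInstance
  haveI : LocallyOfFinitePresentation f₁ := by
    haveI : LocallyOfFinitePresentation (f₁ ≫ V.ι) := by rw [← hw]; infer_instance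
    exact GrpScheme.FlatFib.locallyOfFinitePresentation_of_comp f₁ V.ι
  haveI : IsAffineHom f₁ := inferInstance
  let b := pullback.snd f₁ c
  haveI : LocallyOfFinitePresentation b := MorphismProperty.pullback_snd _ _ inferInstance
  haveI : IsAffineHom b := MorphismProperty.pullback_snd _ _ inferInstance
  obtain ⟨hFPq, hFP⟩ := ConsPairLib.isFP_pullback (pullback.fst f₁ c) F₁ hF₁
  haveI : Coh.IsQCoh ((Scheme.Modules.pullback (pullback.fst f₁ c)).obj F₁) := hFPq
  have hc : c (closedPoint _) = f₁ u := V.toScheme.fromSpecStalk_closedPoint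
  obtain ⟨xP, hxP₁, hxP₂⟩ := Scheme.Pullback.exists_preimage_pullback (f := f₁) (g := c) u
    (closedPoint (V.toScheme.presheaf.stalk (f₁ u))) hc.symm
  let gS := pullback.snd g₁ c
  haveI : IsProper gS := MorphismProperty.pullback_snd _ _ inferInstance
  haveI : LocallyOfFinitePresentation gS := MorphismProperty.pullback_snd _ _ inferInstance
  have hinj₂ : GermInj gS (closedPoint _) := hinj₁.baseChange (c := c) (p := pullback.fst g₁ c) pullback.condition hc
    (pullGerm_surjective c hc) fun y' hy' => by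
      obtain ⟨z, hz₁, hz₂⟩ := Scheme.Pullback.exists_preimage_pullback (f := g₁) (g := c) y'
        (closedPoint (V.toScheme.presheaf.stalk (f₁ u))) (hy'.trans hc.symm)
      exact ⟨z, hz₂, hz₁, S4366.result g₁ (f₁ u) z⟩
  haveI : IsLocalRing (V.toScheme.presheaf.stalk (f₁ u) : Type u) := inferInstance
  haveI : QuasiCompact b := inferInstance
  haveI : QuasiSeparated b := inferInstance
  have key := @isFlatOverAt_of_proper_local (V.toScheme.presheaf.stalk (f₁ u) : Type u) _ ‹_› _ _ b ‹LocallyOfFinitePresentation b›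
    ‹QuasiCompact b› ‹QuasiSeparated b› ((Scheme.Modules.pullback (pullback.fst f₁ c)).obj F₁) hFPq hFP xP hxP₂
    gS ‹IsProper gS› ‹LocallyOfFinitePresentation gS› hinj₂ fun x' hx' => by
      let v : pullback b gS ⟶ pullback f₁ g₁ := pullback.lift (pullback.fst b gS ≫ pullback.fst f₁ c)
        (pullback.snd b gS ≫ pullback.fst g₁ c) (by
          rw [Category.assoc, pullback.condition, pullback.condition_assoc, Category.assoc, pullback.condition])
      have hv : IsPullback v (pullback.snd b gS) (pullback.snd f₁ g₁) (pullback.fst g₁ c) := by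
        refine IsPullback.of_right ?_ (pullback.lift_snd _ _ _) (IsPullback.of_hasPullback f₁ g₁)
        rw [pullback.lift_fst, pullback.condition]
        exact (IsPullback.of_hasPullback b gS).paste_horiz (IsPullback.of_hasPullback f₁ c)
      have h := FDesc.BaseChangeStalk.flatOverAt_baseChange hv x' _ (hflat₁ (v x') (by
        have hvf : v ≫ pullback.fst f₁ g₁ = pullback.fst b gS ≫ pullback.fst f₁ c := pullback.lift_fst _ _ _
        refine (congr($(hvf).base x')).trans ?_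
        exact (congrArg (pullback.fst f₁ c) hx').trans hxP₁))
      exact Fibres16.LimCrit.isFlatOverAt_of_iso _ ((Scheme.Modules.pullbackComp v _).app F₁ ≪≫
        (Scheme.Modules.pullbackCongr (pullback.lift_fst _ _ _)).app F₁ ≪≫
        ((Scheme.Modules.pullbackComp _ _).app F₁).symm) x' h
  have h := FDesc.BaseChangeStalk.flatOverAt_of_baseChange (IsPullback.of_hasPullback f₁ c) xP F₁
    (Flat.stalkMap c _) key
  rwa [hxP₁] at h

end Groth.Agent.Fibres16.ProperFlat

end
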