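import Groth.Agent.FormalFun.Sep
import Groth.Agent.FormalFun.Finite
import Groth.Agent.Chevalley.Basic
import Groth.Agent.RegLoc.Completion
import Mathlib.RingTheory.Flat.FaithfullyFlat.Algebra
import Mathlib.RingTheory.AdicCompletion.LocalRing

/-!
# Functions small along the closed fibre of a proper scheme over a local ring
-/

set_option autoImplicit false
set_option linter.style.haveILetI false

universe u

open CategoryTheory CategoryTheory.Limits AlgebraicGeometry TopologicalSpace Opposite IsLocalRing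

noncomputable section

namespace Groth.Agent.Fibres16.ProperFlat

section Germ

variable {O : Type u} [CommRing O] {Z : Scheme.{u}} (g : Z ⟶ Spec (CommRingCat.of O))

/-- The germ at `z` of the function defined by an element of the base ring. -/
def gl (z : Z) : O →+* Z.presheaf.stalk z :=
  ((Z.presheaf.germ ⊤ z trivial).hom.comp g.appTop.hom).comp (Scheme.ΓSpecIso (CommRingCat.of O)).inv.hom

variable {g} in
theorem stalkMap_gl {O' : Type u} [CommRing O'] {Z' : Scheme.{u}} {g' : Z' ⟶ Spec (CommRingCat.of O')}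
    {φ : O →+* O'} {p : Z' ⟶ Z} (h : p ≫ g = g' ≫ Spec.map (CommRingCat.ofHom φ)) (z' : Z') (a : O) :
    p.stalkMap z' (gl g (p z') a) = gl g' z' (φ a) := by
  show p.stalkMap z' (Z.presheaf.germ ⊤ (p z') trivial (g.appTop ((Scheme.ΓSpecIso (CommRingCat.of O)).inv a))) =
    Z'.presheaf.germ ⊤ z' trivial (g'.appTop ((Scheme.ΓSpecIso (CommRingCat.of O')).inv (φ a)))
  rw [Scheme.Hom.germ_stalkMap_apply]
  congr 1
  have h1 := congr($(congrArg (fun k => Scheme.Hom.appTop k) h) ((Scheme.ΓSpecIso (CommRingCat.of O)).inv a))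
  simp only [Scheme.Hom.comp_appTop, CommRingCat.comp_apply] at h1
  rw [show (Spec.map (CommRingCat.ofHom φ)).appTop ((Scheme.ΓSpecIso (CommRingCat.of O)).inv a) =
    (Scheme.ΓSpecIso (CommRingCat.of O')).inv (φ a) from
    congr($((Scheme.ΓSpecIso_inv_naturality (CommRingCat.ofHom φ)).symm) a)] at h1
  exact h1

variable [IsLocalRing O]

theorem map_maximalIdeal_gl_le {z : Z} (hz : g z = closedPoint O) :
    (maximalIdeal O).map (gl g z) ≤ maximalIdeal (Z.presheaf.stalk z) := by
  rw [Ideal.map_le_iff_le_comap]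
  intro a ha
  show gl g z a ∈ nonunits _
  intro hu
  let s := g.appTop ((Scheme.ΓSpecIso (CommRingCat.of O)).inv a)
  have h1 : z ∈ Z.basicOpen s := (Z.mem_basicOpen s z trivial).mpr hu
  have h2 : z ∈ g ⁻¹ᵁ (Spec (CommRingCat.of O)).basicOpen ((Scheme.ΓSpecIso (CommRingCat.of O)).inv a) := by
    rw [Scheme.preimage_basicOpen_top]; exact h1
  rw [basicOpen_eq_of_affine] at h2
  have h3 : a ∉ (g z).asIdeal := h2
  rw [hz] at h3
  exact h3 ha

end Germ

theorem eq_zero_of_germs_closedFibre {O : Type u} [CommRing O] [IsLocalRing O] {Z : Scheme.{u}}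
    (g : Z ⟶ Spec (CommRingCat.of O)) [UniversallyClosed g] (s : Γ(Z, ⊤))
    (h : ∀ z, g z = closedPoint O → Z.presheaf.germ ⊤ z trivial s = 0) : s = 0 := by
  refine TopCat.Presheaf.section_ext Z.sheaf ⊤ _ 0 fun z _ => ?_
  by_contra hz
  have hC : IsClosed {w : Z | Z.presheaf.germ ⊤ w trivial s ≠ 0} := by
    rw [← isOpen_compl_iff, isOpen_iff_mem_nhds]
    intro w hw
    simp only [Set.mem_compl_iff, Set.mem_setOf_eq, not_not] at hw
    obtain ⟨W, hwW, i₁, i₂, he⟩ := Z.presheaf.germ_eq (U := ⊤) (V := ⊤) w trivial trivial s 0 (hw.trans (map_zero _).symm)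
    refine Filter.mem_of_superset (W.2.mem_nhds hwW) fun v hv => ?_
    simp only [Set.mem_compl_iff, Set.mem_setOf_eq, not_not]
    rw [← Z.presheaf.germ_res_apply i₁ v hv, he, map_zero, map_zero]
  obtain ⟨w, hw, hwc⟩ : closedPoint O ∈ g '' {w : Z | Z.presheaf.germ ⊤ w trivial s ≠ 0} :=
    (IsLocalRing.specializes_closedPoint (g z)).mem_closed (g.isClosedMap _ hC)
      ⟨z, fun e => hz (e.trans (map_zero _).symm), rfl⟩
  exact hw (h w hwc)

/-- Functions on the base which are deep along the closed fibre of a proper scheme are deep at the closed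
point, if only zero vanishes along the closed fibre. -/
theorem exists_kerPow_le {O : Type u} [CommRing O] [IsNoetherianRing O] [IsLocalRing O] {Z : Scheme.{u}}
    (g : Z ⟶ Spec (CommRingCat.of O)) [IsProper g]
    (hinj : ∀ a : O, (∀ z, g z = closedPoint O → gl g z a = 0) → a = 0) (N : ℕ) :
    ∃ k, ∀ a : O, (∀ z, g z = closedPoint O → gl g z a ∈ ((maximalIdeal O) ^ k).map (gl g z)) →
      a ∈ maximalIdeal O ^ N := by
  let C := AdicCompletion (maximalIdeal O) O
  haveI : IsNoetherianRing C := RegLoc.Completion.isNoetherianRing_adicCompletion' _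
  haveI : Module.FaithfullyFlat O C := by
    haveI : IsLocalHom (algebraMap O C) := AdicCompletion.algebraMap_isLocalHom_of_fg (IsNoetherian.noetherian _)
    exact Module.FaithfullyFlat.of_flat_of_isLocalHom
  let hV := isAffineOpen_top (Spec (CommRingCat.of O))
  let ε := (Scheme.ΓSpecIso (CommRingCat.of O)).commRingCatIsoToRingEquiv
  let φ : Γ(Spec (CommRingCat.of O), ⊤) →+* C := (algebraMap O C).comp ε.toRingHom
  have hφ : φ.Flat := RingHom.Flat.comp (RingHom.Flat.of_bijective ε.bijective)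
    (RingHom.flat_algebraMap_iff.mpr inferInstance)
  let g' : FormalFun.bcX g hV φ ⟶ Spec (CommRingCat.of C) := pullback.snd g (FormalFun.specTo hV φ)
  haveI : IsProper g' := inferInstanceAs (IsProper (pullback.snd g _))
  have hsq : pullback.fst g (FormalFun.specTo hV φ) ≫ g = g' ≫ Spec.map (CommRingCat.ofHom (algebraMap O C)) := by
    rw [pullback.condition]
    congr 1
    show Spec.map (CommRingCat.ofHom φ) ≫ hV.fromSpec = _
    rw [IsAffineOpen.fromSpec_top, show CommRingCat.ofHom φ =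
      (Scheme.ΓSpecIso (CommRingCat.of O)).hom ≫ CommRingCat.ofHom (algebraMap O C) from rfl,
      Spec.map_comp, Category.assoc, Scheme.isoSpec_Spec_inv, ← Spec.map_comp, Iso.inv_hom_id, Spec.map_id,
      Category.comp_id]
  -- `C → Γ(Z_C)` is injective
  have hinjC : ∀ c : C, (∀ z, g' z = closedPoint C → gl g' z c = 0) → c = 0 := by
    intro c hc
    have h0 := eq_zero_of_germs_closedFibre g' _ hc
    have hg : Function.Injective (g.app ⊤).hom := by
      rw [injective_iff_map_eq_zero]
      intro b hb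
      refine ε.injective ((hinj (ε b) fun z _ => ?_).trans (map_zero ε).symm)
      show Z.presheaf.germ ⊤ z trivial (g.appTop (ε.symm (ε b))) = 0
      rw [RingEquiv.symm_apply_apply, show g.appTop b = 0 from hb, map_zero]
    have hp := FormalFun.isPushout_bc g hV φ hφ
    letI := (g.app ⊤).hom.toAlgebra
    letI := φ.toAlgebra
    letI := (FormalFun.bcPull g hV φ).hom.toAlgebra
    let tg : CommRingCat.of C ⟶ Γ(FormalFun.bcX g hV φ, ⊤) :=
      CommRingCat.ofHom (Coh.toGlobal (FormalFun.bcX g hV φ ↘ Spec (CommRingCat.of C)))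
    letI := tg.hom.toAlgebra
    letI : Algebra Γ(Spec (CommRingCat.of O), ⊤) Γ(FormalFun.bcX g hV φ, ⊤) := (tg.hom.comp φ).toAlgebra
    haveI : IsScalarTower Γ(Spec (CommRingCat.of O), ⊤) C Γ(FormalFun.bcX g hV φ, ⊤) :=
      IsScalarTower.of_algebraMap_eq' rfl
    haveI : IsScalarTower Γ(Spec (CommRingCat.of O), ⊤) Γ(Z, g ⁻¹ᵁ ⊤) Γ(FormalFun.bcX g hV φ, ⊤) :=
      IsScalarTower.of_algebraMap_eq fun b => congr($(hp.w.symm) b)
    haveI : Module.Flat Γ(Spec (CommRingCat.of O), ⊤) C := RingHom.flat_algebraMap_iff.mp hφ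
    haveI hP : Algebra.IsPushout Γ(Spec (CommRingCat.of O), ⊤) C Γ(Z, g ⁻¹ᵁ ⊤) Γ(FormalFun.bcX g hV φ, ⊤) :=
      (CommRingCat.isPushout_iff_isPushout).mp hp.flip
    have hi : Function.Injective (algebraMap C Γ(FormalFun.bcX g hV φ, ⊤)) := by
      have h1 := Algebra.TensorProduct.includeLeft_injective (S := C) (A := C)
        (R := Γ(Spec (CommRingCat.of O), ⊤)) (B := Γ(Z, g ⁻¹ᵁ ⊤)) hg
      let e := Algebra.IsPushout.equiv Γ(Spec (CommRingCat.of O), ⊤) C Γ(Z, g ⁻¹ᵁ ⊤) Γ(FormalFun.bcX g hV φ, ⊤)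
      have h2 := e.injective.comp h1
      intro a b hab
      refine h2 ?_
      show e _ = e _
      rw [show (Algebra.TensorProduct.includeLeft : C →ₐ[C] _) a = algebraMap C _ a from rfl,
        show (Algebra.TensorProduct.includeLeft : C →ₐ[C] _) b = algebraMap C _ b from rfl, e.commutes, e.commutes]
      exact hab
    exact hi (h0.trans (map_zero _).symm)
  haveI : IsLocallyNoetherian (FormalFun.bcX g hV φ) := LocallyOfFiniteType.isLocallyNoetherian g'
  let J : ℕ → Ideal C := fun k =>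
    ⨅ (z) (_ : g' z = closedPoint C), ((maximalIdeal C ^ k).map (gl g' z)).comap (gl g' z)
  obtain ⟨k, hk⟩ := Chevalley.exists_le_pow J
    (fun a b hab => iInf₂_mono fun z _ => Ideal.comap_mono (Ideal.map_mono (Ideal.pow_le_pow_right hab)))
    (eq_bot_iff.2 fun c hc => hinjC c fun z hz => by
      have h1 : gl g' z c ∈ ⨅ n : ℕ, maximalIdeal ((FormalFun.bcX g hV φ).presheaf.stalk z) ^ n := by
        refine Ideal.mem_iInf.2 fun n => ?_
        have h2 := Ideal.mem_iInf.1 hc n
        rw [Ideal.mem_iInf] at h2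
        have h3 := Ideal.mem_iInf.1 (h2 z) hz
        rw [Ideal.mem_comap, Ideal.map_pow] at h3
        exact Ideal.pow_right_mono (map_maximalIdeal_gl_le g' hz) n h3
      rwa [Ideal.iInf_pow_eq_bot_of_isLocalRing _ (Ideal.IsMaximal.ne_top inferInstance)] at h1) N
  refine ⟨k, fun a ha => ?_⟩
  have hmC : maximalIdeal C = (maximalIdeal O).map (algebraMap O C) := AdicCompletion.maximalIdeal_eq_map
  rw [← Ideal.comap_map_eq_self_of_faithfullyFlat (B := C) (maximalIdeal O ^ N), Ideal.mem_comap, Ideal.map_pow,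
    ← hmC]
  refine hk (Ideal.mem_iInf.2 fun z' => Ideal.mem_iInf.2 fun hz' => ?_)
  haveI : IsLocalHom (algebraMap O C) := AdicCompletion.algebraMap_isLocalHom_of_fg (IsNoetherian.noetherian _)
  let p := pullback.fst g (FormalFun.specTo hV φ)
  have hz : g (p z') = closedPoint O := by
    rw [← Scheme.Hom.comp_apply, hsq, Scheme.Hom.comp_apply, hz']
    exact PrimeSpectrum.ext (((IsLocalRing.local_hom_TFAE (algebraMap O C)).out 0 4).mp ‹IsLocalHom (algebraMap O C)›)
  rw [Ideal.mem_comap, ← stalkMap_gl hsq z' a, hmC, ← Ideal.map_pow, Ideal.map_map]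
  have hcomp : (p.stalkMap z').hom.comp (gl g (p z')) = (gl g' z').comp (algebraMap O C) :=
    RingHom.ext fun b => stalkMap_gl hsq z' b
  rw [← hcomp, ← Ideal.map_map]
  exact Ideal.mem_map_of_mem _ (ha (p z') hz)

end Groth.Agent.Fibres16.ProperFlat

end
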