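import Groth.Agent.Fibres16.ProperFlat.Noeth
import Groth.Agent.Fibres16.LimCritScheme
import Groth.Agent.LimTop.BaseChange
import Groth.Agent.LimLib.FGSub
import Groth.Agent.LimLib.Proper
import Groth.Agent.S4788
import Groth.Agent.S4900
import Groth.Agent.S4863
import Groth.Agent.ConsPairLib.ModLoci
import Groth.Agent.FDesc.BaseChangeStalk

/-!
# Flatness along proper morphisms: reduction to a Noetherian base
-/

set_option autoImplicit false
set_option linter.style.haveILetI false

universe u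

open CategoryTheory CategoryTheory.Limits AlgebraicGeometry TopologicalSpace Opposite IsLocalRing
open Groth.Agent

noncomputable section

namespace Groth.Agent.Fibres16.ProperFlat

theorem pullGerm_comp {Y Y' Y'' : Scheme.{u}} (g : Y' ⟶ Y) (h : Y'' ⟶ Y') {y : Y} {y' : Y'} {y'' : Y''}
    (hg : g y' = y) (hh : h y'' = y') (hgh : (h ≫ g) y'' = y) (a : Y.presheaf.stalk y) :
    pullGerm (h ≫ g) hgh a = pullGerm h hh (pullGerm g hg a) := by
  obtain ⟨V, hy, s, rfl⟩ := Y.presheaf.exists_germ_eq a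
  rw [pullGerm_germ (h ≫ g) hgh hy (show (h ≫ g) y'' ∈ V by rw [hgh]; exact hy),
    pullGerm_germ g hg hy (show g y' ∈ V by rw [hg]; exact hy),
    pullGerm_germ h hh (show y' ∈ g ⁻¹ᵁ V by show g y' ∈ V; rw [hg]; exact hy)
      (show h y'' ∈ g ⁻¹ᵁ V by show g (h y'') ∈ V; rw [hh, hg]; exact hy)]
  rfl

theorem pullGerm_congr {Y Y' : Scheme.{u}} {g g' : Y' ⟶ Y} (e : g = g') {y : Y} {y' : Y'} (h : g y' = y)
    (h' : g' y' = y) : pullGerm g h = pullGerm g' h' := by subst e; rfl

/-- A subring of a local ring has injective localisation at the contracted maximal ideal. -/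
theorem pullGerm_specMap_injective {C O : Type u} [CommRing C] [CommRing O] [IsLocalRing O] (φ : C →+* O)
    (hφ : Function.Injective φ) {p : Spec (CommRingCat.of C)}
    (h : Spec.map (CommRingCat.ofHom φ) (closedPoint O) = p) :
    Function.Injective (pullGerm (Spec.map (CommRingCat.ofHom φ)) h) := by
  rw [injective_iff_map_eq_zero]
  intro a ha
  letI : Algebra C ((Spec (CommRingCat.of C)).presheaf.stalk p) :=
    (((Spec (CommRingCat.of C)).presheaf.germ ⊤ p trivial).hom.comp (Scheme.ΓSpecIso (CommRingCat.of C)).inv.hom).toAlgebra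
  haveI : IsLocalization.AtPrime ((Spec (CommRingCat.of C)).presheaf.stalk p) p.asIdeal :=
    StructureSheaf.IsLocalization.to_stalk C p
  obtain ⟨⟨r, s⟩, hrs⟩ := IsLocalization.surj p.asIdeal.primeCompl a
  have key : ∀ c : C, pullGerm (Spec.map (CommRingCat.ofHom φ)) h (algebraMap C _ c) =
      (Spec (CommRingCat.of O)).presheaf.germ ⊤ (closedPoint O) trivial
        ((Scheme.ΓSpecIso (CommRingCat.of O)).inv (φ c)) := fun c => by
    show pullGerm _ h ((Spec (CommRingCat.of C)).presheaf.germ ⊤ p trivial _) = _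
    rw [pullGerm_germ (V := ⊤) _ h trivial trivial]
    exact congrArg ((Spec (CommRingCat.of O)).presheaf.germ ⊤ (closedPoint O) trivial)
      congr($((Scheme.ΓSpecIso_inv_naturality (CommRingCat.ofHom φ)).symm) c)
  have h1 := congrArg (pullGerm (Spec.map (CommRingCat.ofHom φ)) h) hrs
  rw [map_mul, ha, zero_mul, key] at h1
  letI : Algebra O ((Spec (CommRingCat.of O)).presheaf.stalk (closedPoint O)) :=
    (((Spec (CommRingCat.of O)).presheaf.germ ⊤ (closedPoint O) trivial).hom.comp
      (Scheme.ΓSpecIso (CommRingCat.of O)).inv.hom).toAlgebra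
  haveI : IsLocalization.AtPrime ((Spec (CommRingCat.of O)).presheaf.stalk (closedPoint O)) (maximalIdeal O) :=
    StructureSheaf.IsLocalization.to_stalk O (closedPoint O)
  obtain ⟨⟨m, hm⟩, hm'⟩ := (IsLocalization.map_eq_zero_iff (maximalIdeal O).primeCompl
    ((Spec (CommRingCat.of O)).presheaf.stalk (closedPoint O)) (φ r)).1 h1.symm
  have hmu : IsUnit m := by
    by_contra hu
    exact hm hu
  have hr : r = 0 := hφ (by rw [map_zero]; exact hmu.mul_right_eq_zero.1 hm')
  rw [hr, map_zero] at hrs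
  exact (IsLocalization.map_units ((Spec (CommRingCat.of C)).presheaf.stalk p) s).mul_left_eq_zero.1 hrs

/-- A model at a stage, moved to a later stage. -/
theorem exists_model_later {I : Type u} [SmallCategory I] {D : I ⥤ Scheme.{u}} {c : Cone D} {i : I}
    {X₀ X : Scheme.{u}} {f₀ : X₀ ⟶ D.obj i} {q : X ⟶ X₀} {f : X ⟶ c.pt} (hf : IsPullback q f f₀ (c.π.app i))
    {k : I} (φ : k ⟶ i) :
    ∃ q' : X ⟶ pullback f₀ (D.map φ), IsPullback q' f (pullback.snd f₀ (D.map φ)) (c.π.app k) ∧
      q' ≫ pullback.fst f₀ (D.map φ) = q := by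
  have e : q ≫ f₀ = (f ≫ c.π.app k) ≫ D.map φ := by rw [Category.assoc, c.w φ, hf.w]
  refine ⟨pullback.lift q (f ≫ c.π.app k) e, IsPullback.of_right ?_ (pullback.lift_snd _ _ _)
    (IsPullback.of_hasPullback f₀ (D.map φ)), pullback.lift_fst _ _ _⟩
  rw [pullback.lift_fst, c.w φ]; exact hf

/-- Flatness at a point of a base change along an affine morphism. -/
theorem flat_image {X T X₁ : Scheme.{u}} {f : X ⟶ T} {q : X ⟶ X₁} {M : X₁.Modules} {F : X.Modules}
    (e : (Scheme.Modules.pullback q).obj M ≅ F) (x : X) (h : FlatMod.IsFlatOverAt f F x) :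
    FlatMod.IsFlatOverAt f ((Scheme.Modules.pullback q).obj M) x :=
  Fibres16.LimCrit.isFlatOverAt_of_iso f e.symm x h

/-- Flatness along a proper morphism with injective pullback of germs, over a limit of Noetherian affine schemes. -/
theorem isFlatOverAt_of_proper_limit {I : Type u} [SmallCategory I] [IsCofiltered I] {D : I ⥤ Scheme.{u}} {c : Cone D}
    (hc : IsLimit c) [∀ i, IsAffine (D.obj i)] [∀ i, IsLocallyNoetherian (D.obj i)] [IsAffine c.pt]
    [∀ (i j : I) (φ : i ⟶ j), IsAffineHom (D.map φ)] {P Z : Scheme.{u}}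
    (b : P ⟶ c.pt) [LocallyOfFinitePresentation b] [QuasiCompact b] [QuasiSeparated b]
    (F : P.Modules) [Coh.IsQCoh F] (hF : CohB1.IsFP F) (x : P) (y : c.pt) (hx : b x = y)
    (gS : Z ⟶ c.pt) [IsProper gS] [LocallyOfFinitePresentation gS]
    (hy : ∀ (i : I) (p : D.obj i) (h : c.π.app i y = p), Function.Injective (pullGerm (c.π.app i) h))
    (hinj : ∀ a : c.pt.presheaf.stalk y,
      (∀ (z : Z) (h : gS z = y), pullGerm gS h a = 0) → a = 0)
    (hflat : ∀ x' : ↥(pullback b gS), pullback.fst b gS x' = x →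
      FlatMod.IsFlatOverAt (pullback.snd b gS) ((Scheme.Modules.pullback (pullback.fst b gS)).obj F) x') :
    FlatMod.IsFlatOverAt b F x := by
  classical
  haveI : CompactSpace P := QuasiCompact.compactSpace_of_compactSpace b
  haveI : QuasiSeparatedSpace P := quasiSeparatedSpace_of_quasiSeparated b
  haveI : CompactSpace Z := QuasiCompact.compactSpace_of_compactSpace gS
  haveI : QuasiSeparatedSpace Z := quasiSeparatedSpace_of_quasiSeparated gS
  -- models
  obtain ⟨i, X₀, f₀, q₀, h₁, h₂, h₃, hq₀⟩ :=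
    @LimLib.hasModel _ _ _ _ _ hc _ _ _ P b ‹LocallyOfFinitePresentation b› ‹_› ‹_›
  let D₁ := LimTop.bcDiagram D i f₀
  let c₁ := (LimTop.bcCone c i f₀).extend hq₀.flip.isoPullback.hom
  haveI : QuasiCompact f₀ := quasiCompact_of_compactSpace f₀
  haveI : QuasiSeparated f₀ := QuasiSeparated.of_quasiSeparatedSpace f₀
  haveI : CompactSpace (D₁.obj (Over.mk (𝟙 i))) := by
    haveI : QuasiCompact (pullback.fst (D.map (𝟙 i)) f₀) := MorphismProperty.pullback_fst _ _ ‹QuasiCompact f₀›
    have h : CompactSpace (pullback (D.map (𝟙 i)) f₀ : Scheme.{u}) :=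
      QuasiCompact.compactSpace_of_compactSpace (pullback.fst (D.map (𝟙 i)) f₀)
    exact h
  haveI : QuasiSeparatedSpace (D₁.obj (Over.mk (𝟙 i))) := by
    haveI : QuasiSeparated (pullback.fst (D.map (𝟙 i)) f₀) := MorphismProperty.pullback_fst _ _ ‹QuasiSeparated f₀›
    have h : QuasiSeparatedSpace (pullback (D.map (𝟙 i)) f₀ : Scheme.{u}) :=
      quasiSeparatedSpace_of_quasiSeparated (pullback.fst (D.map (𝟙 i)) f₀)
    exact h
  haveI : Coh.IsQCoh (X := c₁.pt) F := ‹Coh.IsQCoh F›
  obtain ⟨j, -, F₁, hF₁q, hF₁, ⟨eF⟩⟩ := S4788.result D₁ c₁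
    (IsLimit.extendIso _ (LimTop.isLimitBcCone hc i f₀)) (Over.mk (𝟙 i)) F hF
  obtain ⟨i₂, Z₀, g₀, s₀, h₁', h₂', h₃', hs₀⟩ :=
    @LimLib.hasModel _ _ _ _ _ hc _ _ _ Z gS ‹LocallyOfFinitePresentation gS› ‹_› ‹_›
  haveI : LocallyOfFiniteType g₀ := inferInstance
  obtain ⟨i₃, φ₃, hprop⟩ := LimLib.descends_isProper D c hc inferInstance inferInstance inferInstance i₂ Z₀ g₀
    h₂' h₃' ‹LocallyOfFiniteType g₀› Z s₀ gS hs₀ ‹IsProper gS›
  let k := IsCofiltered.min j.left i₃
  let ψ₁ : k ⟶ j.left := IsCofiltered.minToLeft _ _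
  let ψ₂ : k ⟶ i₃ := IsCofiltered.minToRight _ _
  have hq₁ : IsPullback (c₁.π.app j) b (pullback.fst (D.map j.hom) f₀) (c.π.app j.left) := by
    have e1 : c₁.π.app j ≫ pullback.fst (D.map j.hom) f₀ = b ≫ c.π.app j.left := by
      show (hq₀.flip.isoPullback.hom ≫ (LimTop.bcCone c i f₀).π.app j) ≫ _ = _
      rw [Category.assoc]
      exact (congrArg (hq₀.flip.isoPullback.hom ≫ ·) (LimTop.bcCone_fst c i f₀ j)).trans
        (hq₀.flip.isoPullback_hom_fst_assoc _)
    have e2 : c₁.π.app j ≫ pullback.snd (D.map j.hom) f₀ = q₀ := by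
      show (hq₀.flip.isoPullback.hom ≫ (LimTop.bcCone c i f₀).π.app j) ≫ _ = _
      rw [Category.assoc]
      exact (congrArg (hq₀.flip.isoPullback.hom ≫ ·) (LimTop.bcCone_snd c i f₀ j)).trans
        hq₀.flip.isoPullback_hom_snd
    refine IsPullback.of_right ?_ e1 (IsPullback.of_hasPullback (D.map j.hom) f₀).flip
    rw [e2, c.w j.hom]; exact hq₀
  let Xk := pullback (pullback.fst (D.map j.hom) f₀) (D.map ψ₁)
  let fk : Xk ⟶ D.obj k := pullback.snd _ _
  obtain ⟨qX, hqX, hqXfst⟩ : ∃ q : P ⟶ Xk, IsPullback q b fk (c.π.app k) ∧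
      q ≫ pullback.fst (pullback.fst (D.map j.hom) f₀) (D.map ψ₁) = c₁.π.app j := exists_model_later hq₁ ψ₁
  obtain ⟨s₁, hs₁, -⟩ := exists_model_later hs₀ φ₃
  obtain ⟨sZ, hsZ, -⟩ := exists_model_later hs₁ ψ₂
  let gk := pullback.snd (pullback.snd g₀ (D.map φ₃)) (D.map ψ₂)
  haveI : LocallyOfFinitePresentation fk :=
    MorphismProperty.pullback_snd _ _ (MorphismProperty.pullback_fst _ _ h₁)
  haveI : QuasiCompact fk := MorphismProperty.pullback_snd _ _ (MorphismProperty.pullback_fst _ _ inferInstance)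
  haveI : IsProper gk := MorphismProperty.pullback_snd _ _ hprop
  haveI : LocallyOfFinitePresentation gk :=
    MorphismProperty.pullback_snd _ _ (MorphismProperty.pullback_snd _ _ h₁')
  let Fk := (Scheme.Modules.pullback (pullback.fst (pullback.fst (D.map j.hom) f₀) (D.map ψ₁))).obj F₁
  haveI : Coh.IsQCoh (X := pullback (D.map j.hom) f₀) F₁ := hF₁q
  obtain ⟨hFkq, hFk⟩ := ConsPairLib.isFP_pullback (pullback.fst (pullback.fst (D.map j.hom) f₀) (D.map ψ₁)) F₁ hF₁
  haveI : Coh.IsQCoh Fk := hFkq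
  let eFk : (Scheme.Modules.pullback qX).obj Fk ≅ F :=
    (Scheme.Modules.pullbackComp qX _).app F₁ ≪≫ (Scheme.Modules.pullbackCongr hqXfst).app F₁ ≪≫ eF
  -- the system over the model of `Z`
  let D₂ := LimTop.bcDiagram D k gk
  let c₂ := (LimTop.bcCone c k gk).extend hsZ.flip.isoPullback.hom
  have hc₂ : IsLimit c₂ := IsLimit.extendIso _ (LimTop.isLimitBcCone hc k gk)
  let i₀ : Over k := Over.mk (𝟙 k)
  let z₀ : D₂.obj i₀ ⟶ D.obj k := pullback.fst (D.map (𝟙 k)) gk
  let f₂ := pullback.snd fk z₀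
  haveI : LocallyOfFinitePresentation f₂ := MorphismProperty.pullback_snd _ _ inferInstance
  have hz₂ : ∀ l : Over k, c₂.π.app l ≫ pullback.fst (D.map l.hom) gk = gS ≫ c.π.app l.left := fun l => by
    show (hsZ.flip.isoPullback.hom ≫ (LimTop.bcCone c k gk).π.app l) ≫ _ = _
    rw [Category.assoc]
    exact (congrArg (hsZ.flip.isoPullback.hom ≫ ·) (LimTop.bcCone_fst c k gk l)).trans
      (hsZ.flip.isoPullback_hom_fst_assoc _)
  let P' := pullback b gS
  have hP : IsPullback (pullback.fst b gS ≫ qX) (pullback.snd b gS) fk (c₂.π.app i₀ ≫ z₀) := by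
    exact cast (congrArg (IsPullback _ _ fk) (hz₂ i₀).symm)
      ((IsPullback.of_hasPullback b gS).paste_horiz hqX)
  let qP : P' ⟶ pullback fk z₀ := pullback.lift (pullback.fst b gS ≫ qX) (pullback.snd b gS ≫ c₂.π.app i₀)
    (by rw [Category.assoc (pullback.snd b gS)]; exact hP.w)
  have hqP : IsPullback qP (pullback.snd b gS) f₂ (c₂.π.app i₀) :=
    IsPullback.of_right (by rw [pullback.lift_fst]; exact hP) (pullback.lift_snd _ _ _)
      (IsPullback.of_hasPullback fk z₀)
  let F₂ := (Scheme.Modules.pullback (pullback.fst fk z₀)).obj Fk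
  obtain ⟨hF₂q, hF₂⟩ := ConsPairLib.isFP_pullback (pullback.fst fk z₀) Fk hFk
  haveI : Coh.IsQCoh F₂ := hF₂q
  let eF₂ : (Scheme.Modules.pullback qP).obj F₂ ≅ (Scheme.Modules.pullback (pullback.fst b gS)).obj F :=
    (Scheme.Modules.pullbackComp qP (pullback.fst fk z₀)).app Fk ≪≫
      (Scheme.Modules.pullbackCongr (show qP ≫ pullback.fst fk z₀ = pullback.fst b gS ≫ qX from
        pullback.lift_fst _ _ _)).app Fk ≪≫
      ((Scheme.Modules.pullbackComp (pullback.fst b gS) qX).app Fk).symm ≪≫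
      (Scheme.Modules.pullback (pullback.fst b gS)).mapIso eFk
  -- flat at a stage, near each point over `x`
  let F₃ : ∀ l : Over i₀, (pullback f₂ (D₂.map l.hom)).Modules := fun l =>
    (Scheme.Modules.pullback (pullback.fst f₂ (D₂.map l.hom))).obj F₂
  let v : ∀ l : Over i₀, P' ⟶ pullback f₂ (D₂.map l.hom) := fun l =>
    pullback.lift qP (pullback.snd b gS ≫ c₂.π.app l.left) (by rw [Category.assoc, c₂.w l.hom]; exact hqP.w)
  let W : Over i₀ → Set ↥P' := fun l =>
    v l ⁻¹' {w | FlatMod.IsFlatOverAt (pullback.snd f₂ (D₂.map l.hom)) (F₃ l) w}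
  have hWo : ∀ l, IsOpen (W l) := fun l => by
    haveI : LocallyOfFinitePresentation (pullback.snd f₂ (D₂.map l.hom)) :=
      MorphismProperty.pullback_snd _ _ inferInstance
    obtain ⟨h₄, h₅⟩ := ConsPairLib.isFP_pullback (pullback.fst f₂ (D₂.map l.hom)) F₂ hF₂
    haveI : Coh.IsQCoh (F₃ l) := h₄
    exact (S4863.result _ (F₃ l) h₅).preimage (v l).continuous
  have hWcov : ∀ x' ∈ pullback.fst b gS ⁻¹' {x}, ∃ l, x' ∈ W l := fun x' hx' => by
    haveI : LocallyOfFinitePresentation f₂ := inferInstance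
    let O₀ := cokernel (𝟙 F₂)
    have hO : IsZero O₀ := isZero_cokernel_of_epi _
    have hFT : CohB1.IsFT F₂ := LimTop.isFT_of_finOn _ (LimTop.fpOn_of_isFP F₂ hF₂ ⊤).finOn
    haveI : Coh.IsQCoh O₀ := QCoh.isQuasicoherent_cokernel (𝟙 F₂)
    have hOfp : CohB1.IsFP O₀ := LimTop.isFP_cokernel hFT hF₂ (𝟙 F₂)
    have key : ∀ {V V' : Scheme.{u}} (p : V ⟶ pullback fk z₀) (φ : V ⟶ V') (w : V),
        Fibres16.LimCrit.CondAt φ ((Scheme.Modules.pullback p).map (0 : O₀ ⟶ F₂)) w ↔
        FlatMod.IsFlatOverAt φ ((Scheme.Modules.pullback p).obj F₂) w := by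
      intro V V' p φ w
      have h0 : (Scheme.Modules.pullback p).map (0 : O₀ ⟶ F₂) = 0 := Functor.map_zero _ _ _
      have hinj' : Function.Injective ((TopCat.Presheaf.stalkFunctor Ab w).map
          (Scheme.Modules.Hom.mapPresheaf ((Scheme.Modules.pullback p).map (0 : O₀ ⟶ F₂)))) := by
        have hz := AddCommGrpCat.subsingleton_of_isZero ((Scheme.Modules.toPresheaf V ⋙
          TopCat.Presheaf.stalkFunctor Ab.{u} w).map_isZero ((Scheme.Modules.pullback p).map_isZero hO))
        intro a a' _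
        exact hz.elim a a'
      let e : cokernel ((Scheme.Modules.pullback p).map (0 : O₀ ⟶ F₂)) ≅
          (Scheme.Modules.pullback p).obj F₂ :=
        cokernelIsoOfEq h0 ≪≫ cokernelZeroIsoTarget
      exact ⟨fun h => Fibres16.LimCrit.isFlatOverAt_of_iso φ e w h.2,
        fun h => ⟨hinj', Fibres16.LimCrit.isFlatOverAt_of_iso φ e.symm w h⟩⟩
    obtain ⟨l, w, hw₁, hw₂, hw⟩ := Fibres16.LimCrit.exists_stage hc₂ f₂ hOfp hF₂ 0 (pullback.snd b gS) qP hqP x'
      ((key _ _ _).2 (flat_image eF₂ x' (hflat x' hx')))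
    obtain rfl : w = v l := pullback.hom_ext (hw₁.trans (pullback.lift_fst _ _ _).symm)
      (hw₂.trans (pullback.lift_snd _ _ _).symm)
    exact ⟨l, (key _ _ _).1 hw⟩
  -- one stage for the whole fibre
  have hWmono : ∀ {l l' : Over i₀} (_ : l' ⟶ l), W l ⊆ W l' := fun {l l'} t w hw => by
    let t' : pullback f₂ (D₂.map l'.hom) ⟶ pullback f₂ (D₂.map l.hom) :=
      pullback.lift (pullback.fst _ _) (pullback.snd _ _ ≫ D₂.map t.left)
        (by rw [Category.assoc, ← D₂.map_comp, Over.w t]; exact pullback.condition)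
    have sq : IsPullback t' (pullback.snd f₂ (D₂.map l'.hom)) (pullback.snd f₂ (D₂.map l.hom)) (D₂.map t.left) :=
      IsPullback.of_right (by rw [pullback.lift_fst, ← D₂.map_comp, Over.w t]; exact IsPullback.of_hasPullback _ _)
        (pullback.lift_snd _ _ _) (IsPullback.of_hasPullback _ _)
    have hv : v l' ≫ t' = v l := pullback.hom_ext
      (by rw [Category.assoc, pullback.lift_fst, pullback.lift_fst, pullback.lift_fst])
      (by rw [Category.assoc, pullback.lift_snd, pullback.lift_snd_assoc, pullback.lift_snd, Category.assoc,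
        c₂.w t.left])
    have hw' : FlatMod.IsFlatOverAt (pullback.snd f₂ (D₂.map l.hom)) (F₃ l) (t' (v l' w)) := by
      rw [← Scheme.Hom.comp_apply, hv]; exact hw
    have := FDesc.BaseChangeStalk.flatOverAt_baseChange sq (v l' w) (F₃ l) hw'
    exact Fibres16.LimCrit.isFlatOverAt_of_iso _ ((Scheme.Modules.pullbackComp t' _).app F₂ ≪≫
      (Scheme.Modules.pullbackCongr (pullback.lift_fst _ _ _)).app F₂) _ this
  have hKc : IsCompact (pullback.fst b gS ⁻¹' {x}) :=
    QuasiCompact.isCompact_preimage_singleton (pullback.fst b gS) x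
  obtain ⟨T, hT⟩ := hKc.elim_finite_subcover W hWo fun x' hx' => Set.mem_iUnion.2 (hWcov x' hx')
  obtain ⟨l, hl⟩ := IsCofiltered.inf_objs_exists T
  have hall : ∀ x' ∈ pullback.fst b gS ⁻¹' {x}, x' ∈ W l := fun x' hx' => by
    obtain ⟨l', hl', hx''⟩ := Set.mem_iUnion₂.1 (hT hx')
    exact hWmono (hl hl').some hx''
  -- the stage
  let m := l.left
  let gm : D₂.obj m ⟶ D.obj m.left := pullback.fst (D.map m.hom) gk
  haveI : IsProper gm := MorphismProperty.pullback_fst _ _ ‹IsProper gk›
  let Xm := pullback fk (D.map m.hom)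
  let fm : Xm ⟶ D.obj m.left := pullback.snd _ _
  obtain ⟨qm, hqm, hqmfst⟩ : ∃ q : P ⟶ Xm, IsPullback q b fm (c.π.app m.left) ∧
      q ≫ pullback.fst fk (D.map m.hom) = qX := exists_model_later hqX m.hom
  let Fm := (Scheme.Modules.pullback (pullback.fst fk (D.map m.hom))).obj Fk
  haveI : LocallyOfFinitePresentation fm := MorphismProperty.pullback_snd _ _ inferInstance
  haveI : IsLocallyNoetherian Xm := LocallyOfFiniteType.isLocallyNoetherian fm
  obtain ⟨hFmq, hFm⟩ := ConsPairLib.isFP_pullback (pullback.fst fk (D.map m.hom)) Fk hFk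
  haveI : Coh.IsQCoh Fm := hFmq
  have hcoh : Coh.IsCoh Fm := ConsPairLib.isCoh_of_isFP _ hFm
  have key : FlatMod.IsFlatOverAt fm Fm (qm x) := by
    refine isFlatOverAt_of_proper_noetherian fm Fm hcoh (qm x) gm (fun a ha => ?_) fun x₁ hx₁ => ?_
    · have hp : (c.π.app m.left) y = fm (qm x) := by
        rw [← hx]
        exact congr($(hqm.w).base x).symm
      refine hy m.left _ hp ((hinj _ fun z hz => ?_).trans (map_zero _).symm)
      have hz' : gm (c₂.π.app m z) = fm (qm x) := by
        rw [← Scheme.Hom.comp_apply, hz₂ m, Scheme.Hom.comp_apply, hz]; exact hp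
      have h3 : (gS ≫ c.π.app m.left) z = fm (qm x) := by rw [Scheme.Hom.comp_apply, hz]; exact hp
      refine (pullGerm_comp (c.π.app m.left) gS hp hz h3 a).symm.trans ?_
      have h4 : (c₂.π.app m ≫ gm) z = fm (qm x) := hz'
      rw [pullGerm_congr (hz₂ m).symm h3 h4, pullGerm_comp gm (c₂.π.app m) hz' rfl h4, ha _ hz', map_zero]
    · let u : P' ⟶ pullback fm gm :=
        pullback.lift (pullback.fst b gS ≫ qm) (pullback.snd b gS ≫ c₂.π.app m) (by
          rw [Category.assoc, hqm.w, pullback.condition_assoc, Category.assoc, ← hz₂ m])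
      have hu₁ : u ≫ pullback.fst fm gm = pullback.fst b gS ≫ qm := pullback.lift_fst _ _ _
      have hbig : IsPullback (u ≫ pullback.snd fm gm) (pullback.fst b gS) gm (qm ≫ fm) := by
        rw [pullback.lift_snd]
        have hg : IsPullback (c₂.π.app m) gS gm (c.π.app m.left) := by
          refine IsPullback.of_right ?_ (hz₂ m) (IsPullback.of_hasPullback (D.map m.hom) gk).flip
          have : c₂.π.app m ≫ pullback.snd (D.map m.hom) gk = sZ := by
            show (hsZ.flip.isoPullback.hom ≫ (LimTop.bcCone c k gk).π.app m) ≫ _ = _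
            rw [Category.assoc]
            exact (congrArg (hsZ.flip.isoPullback.hom ≫ ·) (LimTop.bcCone_snd c k gk m)).trans
              hsZ.flip.isoPullback_hom_snd
          rw [this, c.w m.hom]; exact hsZ
        rw [hqm.w]
        exact (IsPullback.of_hasPullback b gS).flip.paste_horiz hg
      have hu : IsPullback u (pullback.fst b gS) (pullback.fst fm gm) qm :=
        IsPullback.of_right hbig hu₁ (IsPullback.of_hasPullback fm gm).flip
      obtain ⟨x', hx'₁, hx'₂⟩ := Scheme.Pullback.exists_preimage_pullback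
        (f := pullback.fst fm gm) (g := qm) x₁ x hx₁
      let x'' := hu.isoPullback.inv x'
      have hxf : pullback.fst b gS x'' = x := by
        rw [← hx'₂]
        exact congr($(hu.isoPullback_inv_snd).base x')
      have hxu : u x'' = x₁ := by
        rw [← hx'₁]
        exact congr($(hu.isoPullback_inv_fst).base x')
      have hflat' : FlatMod.IsFlatOverAt (pullback.snd f₂ (D₂.map l.hom)) (F₃ l) (v l x'') := hall x'' hxf
      have e₀ : D₂.map l.hom ≫ z₀ = gm ≫ D.map m.hom := by
        have hl' : l.hom.left = m.hom := (Category.comp_id _).symm.trans (Over.w l.hom)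
        show D₂.map l.hom ≫ pullback.fst (D.map (𝟙 k)) gk = _
        erw [pullback.lift_fst]
        exact congrArg (fun t => gm ≫ D.map t) hl'
      let θ : pullback fm gm ⟶ pullback f₂ (D₂.map l.hom) :=
        pullback.lift (pullback.lift (pullback.fst fm gm ≫ pullback.fst fk (D.map m.hom))
            (pullback.snd fm gm ≫ D₂.map l.hom) (by
              rw [Category.assoc, pullback.condition, Category.assoc, e₀, pullback.condition_assoc]))
          (pullback.snd fm gm) (pullback.lift_snd _ _ _)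
      have hθ₁ : θ ≫ pullback.fst f₂ (D₂.map l.hom) ≫ pullback.fst fk z₀ =
          pullback.fst fm gm ≫ pullback.fst fk (D.map m.hom) := by
        rw [pullback.lift_fst_assoc, pullback.lift_fst]
      have hθ : IsPullback θ (pullback.snd fm gm) (pullback.snd f₂ (D₂.map l.hom)) (𝟙 _) := by
        have hA : IsPullback (pullback.fst f₂ (D₂.map l.hom) ≫ pullback.fst fk z₀)
            (pullback.snd f₂ (D₂.map l.hom)) fk (D₂.map l.hom ≫ z₀) :=
          (IsPullback.of_hasPullback f₂ (D₂.map l.hom)).paste_horiz (IsPullback.of_hasPullback fk z₀)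
        have hB : IsPullback (pullback.fst fm gm ≫ pullback.fst fk (D.map m.hom)) (pullback.snd fm gm) fk
            (gm ≫ D.map m.hom) :=
          (IsPullback.of_hasPullback fm gm).paste_horiz (IsPullback.of_hasPullback fk (D.map m.hom))
        refine IsPullback.of_right ?_ ((pullback.lift_snd _ _ _).trans (Category.comp_id _).symm) hA
        rw [hθ₁, Category.id_comp, e₀]; exact hB
      have huθ : u ≫ θ = v l := by
        apply pullback.hom_ext
        · apply pullback.hom_ext
          · rw [Category.assoc, Category.assoc, hθ₁, ← Category.assoc, hu₁, Category.assoc, hqmfst,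
              pullback.lift_fst, pullback.lift_fst]
          · show ((u ≫ θ) ≫ pullback.fst f₂ (D₂.map l.hom)) ≫ pullback.snd fk z₀ = _
            rw [Category.assoc, Category.assoc, pullback.lift_fst_assoc, pullback.lift_snd,
              ← Category.assoc, pullback.lift_snd, Category.assoc, c₂.w l.hom, pullback.lift_fst,
              pullback.lift_snd]
        · rw [Category.assoc, pullback.lift_snd, pullback.lift_snd, pullback.lift_snd]
      rw [← huθ, Scheme.Hom.comp_apply, hxu] at hflat'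
      have h5 := FDesc.BaseChangeStalk.flatOverAt_baseChange hθ x₁ (F₃ l) hflat'
      refine Fibres16.LimCrit.isFlatOverAt_of_iso _ ?_ x₁ h5
      exact (Scheme.Modules.pullback θ).mapIso ((Scheme.Modules.pullbackComp _ _).app Fk) ≪≫
        (Scheme.Modules.pullbackComp _ _).app Fk ≪≫ (Scheme.Modules.pullbackCongr hθ₁).app Fk ≪≫
        ((Scheme.Modules.pullbackComp _ _).app Fk).symm
  have h6 := FDesc.BaseChangeStalk.flatOverAt_baseChange hqm x Fm key
  exact Fibres16.LimCrit.isFlatOverAt_of_iso b ((Scheme.Modules.pullbackComp qm _).app Fk ≪≫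
    (Scheme.Modules.pullbackCongr hqmfst).app Fk ≪≫ eFk) x h6

/-- Flatness along a proper morphism with injective pullback of germs, over the spectrum of a local ring. -/
theorem isFlatOverAt_of_proper_local {O : Type u} [CommRing O] [IsLocalRing O] {P Z : Scheme.{u}}
    (b : P ⟶ Spec (CommRingCat.of O)) [LocallyOfFinitePresentation b] [QuasiCompact b] [QuasiSeparated b]
    (F : P.Modules) [Coh.IsQCoh F] (hF : CohB1.IsFP F) (x : P) (hx : b x = closedPoint O)
    (gS : Z ⟶ Spec (CommRingCat.of O)) [IsProper gS] [LocallyOfFinitePresentation gS]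
    (hinj : ∀ a : (Spec (CommRingCat.of O)).presheaf.stalk (closedPoint O),
      (∀ (z : Z) (h : gS z = closedPoint O), pullGerm gS h a = 0) → a = 0)
    (hflat : ∀ x' : ↥(pullback b gS), pullback.fst b gS x' = x →
      FlatMod.IsFlatOverAt (pullback.snd b gS) ((Scheme.Modules.pullback (pullback.fst b gS)).obj F) x') :
    FlatMod.IsFlatOverAt b F x := by
  haveI : ∀ i, IsAffine ((LimLib.fgDiagram ℤ O).obj i) := fun i => LimLib.isAffine_fgDiagram ℤ O i
  haveI : ∀ i, IsLocallyNoetherian ((LimLib.fgDiagram ℤ O).obj i) := fun i => by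
    haveI : IsNoetherianRing (Algebra.adjoin ℤ (i.unop : Set O)) :=
      Algebra.FiniteType.isNoetherianRing ℤ _ (h := (Subalgebra.fg_iff_finiteType _).1 ⟨i.unop, rfl⟩)
    exact inferInstanceAs (IsLocallyNoetherian (Spec (CommRingCat.of (Algebra.adjoin ℤ (i.unop : Set O)))))
  haveI : ∀ (i j : (Finset O)ᵒᵖ) (φ : i ⟶ j), IsAffineHom ((LimLib.fgDiagram ℤ O).map φ) :=
    fun i j φ => LimLib.isAffineHom_fgDiagram ℤ O φ
  haveI : IsAffine (LimLib.fgCone ℤ O).pt := inferInstanceAs (IsAffine (Spec (CommRingCat.of O)))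
  exact @isFlatOverAt_of_proper_limit _ _ _ _ _ (LimLib.isLimitFgCone ℤ O) _ _ _ _ P Z b ‹_› ‹_› ‹_› F ‹_› hF x
    (closedPoint O) hx gS ‹_› ‹_›
    (fun i p h => pullGerm_specMap_injective (Algebra.adjoin ℤ (i.unop : Set O)).val.toRingHom
      Subtype.val_injective h)
    hinj hflat

end Groth.Agent.Fibres16.ProperFlat

end
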