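import Groth.Agent.Fibres16.ProperFlat.Kernels
import Groth.Agent.Fibres16.FlatFamily.Stalk
import Groth.Agent.Fibres16.FlatFamily.Local
import Groth.Agent.S4366
import Groth.Prelude.Def_FlatMod2

/-!
# Flatness descends along proper morphisms with injective pullback of germs (Noetherian base)
-/

set_option autoImplicit false
set_option linter.style.haveILetI false

universe u

open CategoryTheory CategoryTheory.Limits AlgebraicGeometry TopologicalSpace Opposite IsLocalRing
open TensorProduct Groth.Agent Groth.Agent.Fibres16.FlatFamily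

noncomputable section

namespace Groth.Agent.Fibres16.ProperFlat

attribute [local instance] Algebra.TensorProduct.rightAlgebra

/-- Pullback of germs at a point to a point above it. -/
def pullGerm {Y Y' : Scheme.{u}} (g : Y' ⟶ Y) {y : Y} {y' : Y'} (h : g y' = y) :
    Y.presheaf.stalk y →+* Y'.presheaf.stalk y' :=
  (Y.presheaf.stalkSpecializes (specializes_of_eq h) ≫ g.stalkMap y').hom

theorem pullGerm_germ {Y Y' : Scheme.{u}} (g : Y' ⟶ Y) {y : Y} {y' : Y'} (h : g y' = y) {V : Y.Opens}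
    (hy : y ∈ V) (hy' : y' ∈ g ⁻¹ᵁ V) (s : Γ(Y, V)) :
    pullGerm g h (Y.presheaf.germ V y hy s) = Y'.presheaf.germ (g ⁻¹ᵁ V) y' hy' (g.app V s) := by
  show g.stalkMap y' (Y.presheaf.stalkSpecializes (specializes_of_eq h) (Y.presheaf.germ V y hy s)) = _
  rw [TopCat.Presheaf.germ_stalkSpecializes_apply, Scheme.Hom.germ_stalkMap_apply]

theorem isLocalHom_pullGerm {Y Y' : Scheme.{u}} (g : Y' ⟶ Y) {y : Y} {y' : Y'} (h : g y' = y) :
    IsLocalHom (pullGerm g h) := by
  subst h
  have : pullGerm g (rfl : g y' = g y') = (g.stalkMap y').hom := by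
    rw [pullGerm, TopCat.Presheaf.stalkSpecializes_refl, Category.id_comp]
  rw [this]; infer_instance

/-- Germs on the pullback to the local scheme. -/
theorem stalkMap_pullGerm {Y Y' : Scheme.{u}} (g : Y' ⟶ Y) (y : Y)
    (z : ↥(pullback g (Y.fromSpecStalk y))) (h : g (pullback.fst g (Y.fromSpecStalk y) z) = y)
    (a : Y.presheaf.stalk y) :
    (pullback.fst g (Y.fromSpecStalk y)).stalkMap z (pullGerm g h a) =
      gl (pullback.snd g (Y.fromSpecStalk y)) z a := by
  obtain ⟨V, hy, s, rfl⟩ := Y.presheaf.exists_germ_eq a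
  let p := pullback.fst g (Y.fromSpecStalk y)
  let gO := pullback.snd g (Y.fromSpecStalk y)
  rw [pullGerm_germ g h hy (show g (p z) ∈ V by rw [h]; exact hy), Scheme.Hom.germ_stalkMap_apply]
  have eW : (⊤ : (Spec (Y.presheaf.stalk y)).Opens) ≤ Y.fromSpecStalk y ⁻¹ᵁ V := by
    simpa using top_le_preimage y hy (𝟙 (Y.presheaf.stalk y))
  have e2 : (Y.fromSpecStalk y).appLE V ⊤ eW s =
      (Scheme.ΓSpecIso (Y.presheaf.stalk y)).inv (Y.presheaf.germ V y hy s) := by
    have := appLE_specMap_fromSpecStalk y hy _ (𝟙 (Y.presheaf.stalk y)) (top_le_preimage y hy _) s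
    simpa using this
  have e3 : (⊤ : (pullback g (Y.fromSpecStalk y)).Opens) ≤ p ⁻¹ᵁ (g ⁻¹ᵁ V) := by
    rw [← Scheme.Hom.comp_preimage, show p ≫ g = gO ≫ Y.fromSpecStalk y from pullback.condition,
      Scheme.Hom.comp_preimage]
    exact fun w _ => eW trivial
  show _ = (pullback g (Y.fromSpecStalk y)).presheaf.germ ⊤ z trivial
    (gO.appTop ((Scheme.ΓSpecIso (Y.presheaf.stalk y)).inv (Y.presheaf.germ V y hy s)))
  rw [← e2, ← (pullback g (Y.fromSpecStalk y)).presheaf.germ_res_apply (homOfLE e3) z trivial]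
  congr 1
  show (g.app V ≫ p.appLE (g ⁻¹ᵁ V) ⊤ e3) s = ((Y.fromSpecStalk y).appLE V ⊤ eW ≫ gO.appTop) s
  congr 1
  simp only [Scheme.Hom.app_eq_appLE, Scheme.Hom.appLE_comp_appLE,
    show p ≫ g = gO ≫ Y.fromSpecStalk y from pullback.condition]
  exact congrArg _ (Scheme.Hom.appLE_comp_appLE gO (Y.fromSpecStalk y) V ⊤ ⊤ eW le_top).symm

/-- Flatness descends along a proper morphism if only zero germs die on the fibre: locally Noetherian base. -/
theorem isFlatOverAt_of_proper_noetherian {X Y Y' : Scheme.{u}} [IsLocallyNoetherian Y]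
    (f : X ⟶ Y) [LocallyOfFiniteType f] (F : X.Modules) (hF : Coh.IsCoh F) (x : X)
    (g : Y' ⟶ Y) [IsProper g]
    (hinj : ∀ a : Y.presheaf.stalk (f x), (∀ (y' : Y') (h : g y' = f x), pullGerm g h a = 0) → a = 0)
    (hflat : ∀ x' : ↥(pullback f g), pullback.fst f g x' = x →
      FlatMod.IsFlatOverAt (pullback.snd f g) ((Scheme.Modules.pullback (pullback.fst f g)).obj F) x') :
    FlatMod.IsFlatOverAt f F x := by
  haveI : IsLocallyNoetherian X := LocallyOfFiniteType.isLocallyNoetherian f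
  haveI : F.IsQuasicoherent := hF.1
  haveI : SheafOfModules.IsFiniteType.{u} F := hF.2
  obtain ⟨US, hS, hyUS, -⟩ := exists_isAffineOpen_mem_and_subset (U := (⊤ : Y.Opens)) (x := f x) trivial
  obtain ⟨U, hU, hxU, eU⟩ := exists_isAffineOpen_mem_and_subset (U := f ⁻¹ᵁ US) (x := x) hyUS
  let A₀ := Γ(Y, US)
  let O := Y.presheaf.stalk (f x)
  let L := X.presheaf.stalk x
  letI := (f.appLE US U eU).hom.toAlgebra
  letI : Module A₀ Γ(F, U) := Module.compHom _ (f.appLE US U eU).hom
  haveI : IsScalarTower A₀ Γ(X, U) Γ(F, U) := IsScalarTower.of_algebraMap_smul fun _ _ => rfl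
  haveI : IsNoetherianRing Γ(X, U) := IsLocallyNoetherian.component_noetherian ⟨U, hU⟩
  haveI : IsNoetherianRing A₀ := IsLocallyNoetherian.component_noetherian ⟨US, hS⟩
  haveI : Module.Finite Γ(X, U) Γ(F, U) := Groth.Agent.QCoh.finite_sections_of_isFiniteType F hU
  letI : Algebra A₀ O := (Y.presheaf.germ US (f x) (eU hxU)).hom.toAlgebra
  let pp := AssSch.Stalk.primeOf hS (f x) (eU hxU)
  haveI : IsLocalization.AtPrime O pp := hS.isLocalization_stalk ⟨f x, eU hxU⟩
  letI : Algebra Γ(X, U) L := (X.presheaf.germ U x hxU).hom.toAlgebra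
  let q := AssSch.Stalk.primeOf hU x hxU
  haveI : IsLocalization.AtPrime L q := hU.isLocalization_stalk ⟨x, hxU⟩
  letI : Algebra O L := (f.stalkMap x).hom.toAlgebra
  letI : Algebra A₀ L := ((algebraMap Γ(X, U) L).comp (algebraMap A₀ Γ(X, U))).toAlgebra
  haveI : IsScalarTower A₀ Γ(X, U) L := IsScalarTower.of_algebraMap_eq fun _ => rfl
  haveI : IsScalarTower A₀ O L := IsScalarTower.of_algebraMap_eq fun a =>
    (FlatOpen.Scheme.stalkMap_germ f eU x hxU a).symm
  haveI : IsNoetherianRing O := IsLocalization.isNoetherianRing pp.primeCompl O inferInstance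
  haveI : IsNoetherianRing L := IsLocalization.isNoetherianRing q.primeCompl L inferInstance
  haveI : IsLocalHom (algebraMap O L) := inferInstanceAs (IsLocalHom (f.stalkMap x).hom)
  let gO := pullback.snd g (Y.fromSpecStalk (f x))
  let pO := pullback.fst g (Y.fromSpecStalk (f x))
  have hover : ∀ z, gO z = closedPoint O → g (pO z) = f x := fun z hz => by
    rw [← Scheme.Hom.comp_apply, pullback.condition, Scheme.Hom.comp_apply, hz]
    exact Y.fromSpecStalk_closedPoint
  haveI : IsProper gO := inferInstanceAs (IsProper (pullback.snd g (Y.fromSpecStalk (f x))))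
  have hinjO : ∀ a : O, (∀ z, gO z = closedPoint O → gl gO z a = 0) → a = 0 := fun a ha => by
    refine hinj a fun y' h => ?_
    obtain ⟨z, hz1, hz2⟩ := Scheme.Pullback.exists_preimage_pullback (f := g) (g := Y.fromSpecStalk (f x))
      y' (closedPoint O) (by rw [h]; exact Y.fromSpecStalk_closedPoint.symm)
    subst hz1
    have hz := ha z hz2
    rw [← stalkMap_pullGerm g (f x) z h a] at hz
    haveI := S4366.result g (f x) z
    exact (ConcreteCategory.bijective_of_isIso (pO.stalkMap z)).1 (hz.trans (map_zero _).symm)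
  haveI : Module.Flat O (L ⊗[Γ(X, U)] Γ(F, U)) := by
    refine flat_of_quotients (S := L) _ fun N => ?_
    obtain ⟨k, hk⟩ := @exists_kerPow_le O _ ‹IsNoetherianRing O› _ _ gO ‹IsProper gO› hinjO (N + 1)
    let I : Ideal O := ⨅ (y' : Y') (h : g y' = f x), ((maximalIdeal O ^ k).map (pullGerm g h)).comap (pullGerm g h)
    have hkI : maximalIdeal O ^ k ≤ I := le_iInf₂ fun y' h => Ideal.le_comap_map
    have hI : I ≤ maximalIdeal O ^ (N + 1) := fun a ha => hk a fun z hz => by
      have h' := Ideal.mem_iInf.1 (Ideal.mem_iInf.1 ha (pO z)) (hover z hz)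
      rw [Ideal.mem_comap] at h'
      have e : (pO.stalkMap z).hom.comp (pullGerm g (hover z hz)) = gl gO z :=
        RingHom.ext fun b => stalkMap_pullGerm g (f x) z (hover z hz) b
      have h2 : (pO.stalkMap z).hom.comp (pullGerm g (hover z hz)) a ∈
          (maximalIdeal O ^ k).map ((pO.stalkMap z).hom.comp (pullGerm g (hover z hz))) :=
        (Ideal.map_map _ _).le (Ideal.mem_map_of_mem (pO.stalkMap z).hom h')
      exact e ▸ h2
    refine ⟨I, hI.trans (Ideal.pow_le_pow_right (Nat.le_succ N)), ?_⟩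
    refine flat_quot_forall_local (A := A₀) (B := L) pp.primeCompl (L ⊗[Γ(X, U)] Γ(F, U)) I (n := k) hkI
      (hI.trans (Ideal.pow_le_self (Nat.succ_ne_zero N))) fun a ha => ?_
    obtain ⟨y', hy', hay⟩ : ∃ (y' : Y') (h : g y' = f x), a ∉ ((maximalIdeal O ^ k).map (pullGerm g h)).comap (pullGerm g h) := by
      by_contra! hc
      exact ha (Ideal.mem_iInf.2 fun y' => Ideal.mem_iInf.2 fun h => hc y' h)
    obtain ⟨W', hW', hyW', eW'⟩ := exists_isAffineOpen_mem_and_subset (X := Y') (x := y') (U := g ⁻¹ᵁ US)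
      (show g y' ∈ US by rw [hy']; exact hyUS)
    let R := Y'.presheaf.stalk y'
    letI := (g.appLE US W' eW').hom.toAlgebra
    letI : Algebra Γ(Y', W') R := (Y'.presheaf.germ W' y' hyW').hom.toAlgebra
    letI : Algebra O R := (pullGerm g hy').toAlgebra
    haveI : IsLocalHom (algebraMap O R) := isLocalHom_pullGerm g hy'
    letI : Algebra A₀ R := ((algebraMap Γ(Y', W') R).comp (algebraMap A₀ Γ(Y', W'))).toAlgebra
    haveI : IsScalarTower A₀ Γ(Y', W') R := IsScalarTower.of_algebraMap_eq fun _ => rfl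
    haveI : IsScalarTower A₀ O R := IsScalarTower.of_algebraMap_eq fun b => by
      show Y'.presheaf.germ W' y' hyW' (g.appLE US W' eW' b) = pullGerm g hy' (Y.presheaf.germ US (f x) _ b)
      rw [pullGerm_germ g hy' _ (eW' hyW'), Scheme.Hom.appLE, CommRingCat.comp_apply, Y'.presheaf.germ_res_apply]
    refine ⟨R, inferInstance, inferInstance, inferInstance, inferInstance, inferInstance,
      (maximalIdeal O ^ k).map (algebraMap O R), fun b hb => Ideal.mem_iInf.1 (Ideal.mem_iInf.1 hb y') hy',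
      hay, fun Q _ hQB hQR => ?_⟩
    haveI : Algebra.IsPushout A₀ A₀ Γ(X, U) Γ(X, U) :=
      ⟨IsBaseChange.ofEquiv (LinearEquiv.refl A₀ Γ(X, U))⟩
    obtain ⟨ψ, hψB, -, hψ, -⟩ := localizeAt (A := A₀) (A' := R) q L Γ(F, U)
    refine hψ Q ?_
    obtain ⟨φ, hφB, -, hφ, -⟩ := transfer (A := A₀) (B := Γ(X, U)) (A' := Γ(Y', W')) (A₁ := A₀)
      (B₁ := Γ(X, U)) (R := R) (M := Γ(F, U)) (M₁ := Γ(F, U)) LinearMap.id
      (IsBaseChange.ofEquiv (LinearEquiv.refl Γ(X, U) Γ(F, U)))
    refine hφ _ ?_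
    obtain ⟨x', hx, hy, hB, -, hflat'⟩ := (exists_piece f F g hS hU hW' eU eW').1 ((Q.comap ψ).comap φ)
    refine hflat' (hflat x' ?_)
    rw [Ideal.comap_comap, hφB, ← Ideal.comap_comap, Algebra.algebraMap_self, Ideal.comap_id,
      Ideal.comap_comap, hψB, ← Ideal.comap_comap, hQB] at hB
    replace hB := (IsLocalization.AtPrime.under_maximalIdeal L q).symm.trans hB
    have := congrArg hU.fromSpec
      (PrimeSpectrum.ext (x := hU.primeIdealOf ⟨x, hxU⟩) (y := hU.primeIdealOf ⟨_, hx⟩) hB)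
    rw [hU.fromSpec_primeIdealOf, hU.fromSpec_primeIdealOf] at this
    exact this.symm
  haveI : Module.Flat A₀ O := IsLocalization.flat O pp.primeCompl
  haveI : Module.Flat A₀ (L ⊗[Γ(X, U)] Γ(F, U)) := Module.Flat.trans A₀ O _
  exact (FlatOpen.Scheme.isFlatOverAt_iff f hS hU eU x hxU F).2 (flatAt_of_flat_localization (L := L) q Γ(F, U))

end Groth.Agent.Fibres16.ProperFlat

end
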